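import Groth.Agent.Lib.ExtCech.Functorial
import Groth.Agent.Lib.LC.Torsion
import Groth.Agent.S11313

/-!
# Vanishing on injectives and comparison with local cohomology
-/

universe u

open CategoryTheory Limits DerCA

namespace GrothLib.ExtCech

variable {R : Type u} [CommRing R]

theorem isZero_H_pos_of_injective [IsNoetherianRing R] (E : ModuleCat.{u} R) [Module.Injective R E] :
    ∀ (fs : List R) (p : ℤ), 1 ≤ p → IsZero (extCechH fs E p) := by
  intro fs
  induction fs with
  | nil => exact fun p hp => isZero_H_nil E p (by omega)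
  | cons f fs ih =>
    intro p hp
    let φ := locCxUnit (Submonoid.powers f) (extCech E fs)
    obtain ⟨m, rfl⟩ : ∃ m, p = m + 1 := ⟨p - 1, by omega⟩
    rw [ModuleCat.isZero_iff_subsingleton]
    refine subsingleton_of_forall_eq 0 fun x => ?_
    have hK : Subsingleton ((extCech E fs).homology (m + 1)) :=
      ModuleCat.isZero_iff_subsingleton.1 (ih (m + 1) hp)
    obtain ⟨y, hy⟩ := (ShortComplex.moduleCat_exact_iff _).1 (exact_cocone φ m (m + 1) rfl) x
      (Subsingleton.elim (α := (extCech E fs).homology (m + 1)) _ _)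
    rw [← hy]
    suffices ∃ z, (HomologicalComplex.homologyMap φ m).hom z = y by
      obtain ⟨z, rfl⟩ := this
      exact ShortComplex.moduleCat_zero_apply (ShortComplex.mk _ _ (map_comp_δ φ m (m + 1) rfl)) z
    haveI := isLocalizedModule_homologyMap (Submonoid.powers f) (extCech E fs) m
    rcases (show 0 ≤ m by omega).eq_or_lt with rfl | hm
    · let J : Ideal R := Ideal.span {x | x ∈ fs}
      haveI : Module.Injective R (DRing.torsionSub J E) := GrothLib.LC.injective_torsionSub J E
      obtain ⟨⟨x₀, ⟨s, hs⟩⟩, hx⟩ := IsLocalizedModule.surj (Submonoid.powers f)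
        (HomologicalComplex.homologyMap φ 0).hom y
      obtain ⟨w, hw⟩ := Groth.Agent.S11313.result R (DRing.torsionSub J E) f
        (LocalizedModule.mk (augEquiv E fs x₀) ⟨s, hs⟩)
      rw [LocalizedModule.mkLinearMap_apply, LocalizedModule.mk_eq] at hw
      obtain ⟨⟨t, ht⟩, htw⟩ := hw
      refine ⟨(augEquiv E fs).symm w, ?_⟩
      simp only [Submonoid.smul_def, one_smul, ← mul_smul] at htw hx
      apply IsLocalizedModule.smul_injective (HomologicalComplex.homologyMap φ 0).hom
        (⟨t, ht⟩ * ⟨s, hs⟩ : Submonoid.powers f)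
      show (t * s) • (HomologicalComplex.homologyMap φ 0).hom _ = (t * s) • y
      rw [← map_smul, ← map_smul, htw, map_smul, (augEquiv E fs).symm_apply_apply, mul_smul]
      erw [hx]
      rw [map_smul]
    · exact ⟨0, (map_zero _).trans ((ModuleCat.isZero_iff_subsingleton.1
        (isZero_locCx_homology (Submonoid.powers f) (ih m (by omega)))).elim _ _)⟩

/-- Cohomology theories effaced by injectives with `Γ_I` in degree zero agree with local cohomology. -/
theorem nonempty_equiv_localCohomology (I : Ideal R) (T : ℕ → ModuleCat.{u} R → ModuleCat.{u} R)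
    (ε : ∀ M, T 0 M →ₗ[R] M) (hinj : ∀ M, Function.Injective (ε M))
    (hrange : ∀ M, LinearMap.range (ε M) = DRing.torsionSub I M)
    (h0 : ∀ (S : ShortComplex (ModuleCat.{u} R)), S.ShortExact → Module.Injective R S.X₂ →
      ∃ d : T 0 S.X₃ →ₗ[R] T 1 S.X₁, Function.Surjective d ∧
        ∀ y, d y = 0 ↔ ∃ z, S.g.hom (ε S.X₂ z) = ε S.X₃ y)
    (hs : ∀ (S : ShortComplex (ModuleCat.{u} R)), S.ShortExact → Module.Injective R S.X₂ → ∀ i : ℕ,
      Nonempty (T (i + 1) S.X₃ ≃ₗ[R] T (i + 2) S.X₁)) :
    ∀ (i : ℕ) (M : ModuleCat.{u} R), Nonempty (T i M ≃ₗ[R] (localCohomology I i).obj M) := by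
  let e0 : ∀ M, T 0 M ≃ₗ[R] (localCohomology I 0).obj M := fun M =>
    ((LinearEquiv.ofInjective (ε M) (hinj M)).trans (LinearEquiv.ofEq _ _ (hrange M))).trans
      (GrothLib.LC.torsionEquiv I M)
  have he0 : ∀ {M N : ModuleCat.{u} R} (g : M ⟶ N) (z : T 0 M) (y : T 0 N),
      g.hom (ε M z) = ε N y ↔ (localCohomology I 0).map g (e0 M z) = e0 N y := by
    intro M N g z y
    have hv : (DRing.gammaI I).map g
        ((LinearEquiv.ofEq _ _ (hrange M)) (LinearEquiv.ofInjective (ε M) (hinj M) z)) =
        (⟨g.hom (ε M z), DRing.map_mem_torsionSub I g.hom (hrange M ▸ LinearMap.mem_range_self _ z)⟩ :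
          DRing.torsionSub I N) := rfl
    simp only [e0, LinearEquiv.trans_apply]
    rw [← GrothLib.LC.torsionEquiv_naturality, (GrothLib.LC.torsionEquiv I N).injective.eq_iff, hv,
      Subtype.ext_iff]
    rfl
  intro i
  induction i with
  | zero => exact fun M => ⟨e0 M⟩
  | succ i ih =>
    intro M
    obtain ⟨E, _, _, ι, hE, hι⟩ := GrothLib.InjMod.exists_embedding_injective (R := R) M
    let S : ShortComplex (ModuleCat.{u} R) :=
      ShortComplex.moduleCatMk ι (LinearMap.range ι).mkQ
        (LinearMap.range_mkQ_comp ι)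
    have hS : S.ShortExact :=
      { exact := by
          rw [ShortComplex.ShortExact.moduleCat_exact_iff_function_exact]
          exact LinearMap.exact_iff.2 (Submodule.ker_mkQ _)
        mono_f := (ModuleCat.mono_iff_injective _).2 hι
        epi_g := (ModuleCat.epi_iff_surjective _).2 (Submodule.mkQ_surjective _) }
    haveI : Injective S.X₂ := Module.injective_object_of_injective_module R E
    have hH : Function.Surjective (GrothLib.LC.δ I hS i) := fun x =>
      GrothLib.LC.exists_of_map_f_eq_zero I hS i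
        ((GrothLib.LC.subsingleton_of_injective I S.X₂ i).elim _ 0)
    rcases i with _ | j
    · obtain ⟨d, hd, hker⟩ := h0 S hS hE
      have hk : ∀ y, d y = 0 ↔ GrothLib.LC.δ I hS 0 (e0 _ y) = 0 := by
        intro y
        rw [hker]
        constructor
        · rintro ⟨z, hz⟩
          rw [← (he0 S.g z y).1 hz, GrothLib.LC.δ_map_g]
        · intro h
          obtain ⟨w, hw⟩ := GrothLib.LC.exists_of_δ_eq_zero I hS 0 h
          exact ⟨(e0 _).symm w, (he0 S.g _ y).2 (by rw [(e0 _).apply_symm_apply]; exact hw)⟩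
      refine ⟨((d.quotKerEquivOfSurjective hd).symm.trans
        (Submodule.Quotient.equiv (LinearMap.ker d) (LinearMap.ker (GrothLib.LC.δ I hS 0)) (e0 _) ?_)).trans
        ((GrothLib.LC.δ I hS 0).quotKerEquivOfSurjective hH)⟩
      ext x
      rw [Submodule.mem_map]
      refine ⟨?_, fun hx => ⟨(e0 _).symm x, ?_, (e0 _).apply_symm_apply x⟩⟩
      · rintro ⟨y, hy, rfl⟩
        exact (hk y).1 hy
      · rw [LinearMap.mem_ker, hk, (e0 _).apply_symm_apply]
        exact hx
    · obtain ⟨a⟩ := hs S hS hE j
      obtain ⟨b⟩ := ih S.X₃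
      have hi : Function.Injective (GrothLib.LC.δ I hS (j + 1)) := by
        refine (injective_iff_map_eq_zero _).2 fun x hx => ?_
        obtain ⟨y, rfl⟩ := GrothLib.LC.exists_of_δ_eq_zero I hS (j + 1) hx
        rw [(GrothLib.LC.subsingleton_of_injective I S.X₂ j).elim y 0, map_zero]
      exact ⟨(a.symm.trans b).trans (LinearEquiv.ofBijective _ ⟨hi, hH⟩)⟩

/-- The extended Čech complex computes local cohomology. -/
theorem nonempty_extCechH_equiv [IsNoetherianRing R] (fs : List R) (i : ℕ) (M : ModuleCat.{u} R) :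
    Nonempty (extCechH fs M (i : ℤ) ≃ₗ[R] (localCohomology (Ideal.span {x | x ∈ fs}) i).obj M) := by
  refine nonempty_equiv_localCohomology (Ideal.span {x | x ∈ fs}) (fun i M => extCechH fs M (i : ℤ))
    (fun M => (aug M fs).hom) (fun M => (aug_injective_and_range M fs).1)
    (fun M => range_aug M fs) ?_ ?_ i M
  · intro S hS hE
    have hC := cxShort_shortExact hS fs
    have hz := ModuleCat.isZero_iff_subsingleton.1 (isZero_H_pos_of_injective S.X₂ fs 1 le_rfl)
    refine ⟨(hC.δ 0 1 (by simp)).hom, ?_, ?_⟩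
    · exact (ModuleCat.epi_iff_surjective _).1 (hC.epi_δ 0 1 (by simp)
        (ModuleCat.isZero_iff_subsingleton.2 hz))
    · intro y
      constructor
      · intro h
        obtain ⟨z, hz'⟩ := (ShortComplex.moduleCat_exact_iff _).1 (hC.homology_exact₃ 0 1 (by simp)) y h
        exact ⟨z, (aug_naturality_apply S.g fs z).symm.trans (congrArg _ hz')⟩
      · rintro ⟨z, hz'⟩
        have hzy : (HomologicalComplex.homologyMap (cxMap S.g fs) 0).hom z = y :=
          (aug_injective_and_range S.X₃ fs).1 ((aug_naturality_apply S.g fs z).trans hz')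
        rw [← hzy]
        exact ShortComplex.moduleCat_zero_apply (ShortComplex.mk _ _ (hC.comp_δ 0 1 (by simp))) z
  · intro S hS hE j
    have hC := cxShort_shortExact hS fs
    have hrel : (ComplexShape.up ℤ).Rel ((j + 1 : ℕ) : ℤ) ((j + 2 : ℕ) : ℤ) := by
      simp; omega
    haveI := hC.isIso_δ _ _ hrel (isZero_H_pos_of_injective S.X₂ fs _ (by omega))
      (isZero_H_pos_of_injective S.X₂ fs _ (by omega))
    exact ⟨(asIso (hC.δ _ _ hrel)).toLinearEquiv⟩

end GrothLib.ExtCech
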