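import Groth.Prelude.Def_DerCA
import Mathlib.Algebra.Homology.HomotopyCategory.HomologicalFunctor
import Mathlib.Algebra.Homology.HomotopyCategory.ShiftSequence
import Mathlib.CategoryTheory.Abelian.Exact
import Mathlib.RingTheory.LocalProperties.Exactness
import Mathlib.Algebra.Homology.ShortComplex.ModuleCat
import Mathlib.Algebra.Homology.ShortComplex.Linear
import Mathlib.Algebra.Homology.Linear

/-!
# The extended Čech complex: long exact sequence, vanishing, torsion, contractibility
-/

universe u

open CategoryTheory Limits Pretriangulated CochainComplex DerCA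

namespace GrothLib.ExtCech

variable {R : Type u} [CommRing R]

section Cocone

variable {K L : DRing.Cx R} (φ : K ⟶ L)

noncomputable abbrev q : DRing.Cx R ⥤ HomotopyCategory (ModuleCat.{u} R) (ComplexShape.up ℤ) :=
  HomotopyCategory.quotient _ _

theorem cocone_distinguished :
    q.mapTriangle.obj (mappingCocone.triangle φ) ∈ distTriang _ := by
  rw [rotate_distinguished_triangle]
  exact isomorphic_distinguished _ (HomotopyCategory.mappingCone_triangleh_distinguished φ) _
    ((q (R := R)).mapTriangleRotateIso.app _ ≪≫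
      (q (R := R)).mapTriangle.mapIso (mappingCocone.rotateTriangleIso φ))

noncomputable abbrev H0 : HomotopyCategory (ModuleCat.{u} R) (ComplexShape.up ℤ) ⥤ ModuleCat.{u} R :=
  HomotopyCategory.homologyFunctor _ _ 0

/-- The connecting map. -/
noncomputable def δ (n m : ℤ) (h : n + 1 = m) : L.homology n ⟶ (mappingCocone φ).homology m :=
  (HomotopyCategory.homologyFunctorFactors _ _ n).inv.app L ≫
    (H0 (R := R)).homologySequenceδ (q.mapTriangle.obj (mappingCocone.triangle φ)) n m h ≫
    (HomotopyCategory.homologyFunctorFactors _ _ m).hom.app (mappingCocone φ)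

theorem δ_comp_fst (n m : ℤ) (h : n + 1 = m) :
    δ φ n m h ≫ HomologicalComplex.homologyMap (mappingCocone.fst φ) m = 0 := by
  have e := (HomotopyCategory.homologyFunctorFactors (ModuleCat.{u} R) (ComplexShape.up ℤ) m).hom.naturality
    (mappingCocone.fst φ)
  dsimp only [δ]
  erw [Category.assoc, Category.assoc, ← e, ← Category.assoc ((H0 (R := R)).homologySequenceδ _ n m h),
    (H0 (R := R)).homologySequenceδ_comp _ (cocone_distinguished φ) n m h]
  erw [zero_comp, comp_zero]

theorem map_comp_δ (n m : ℤ) (h : n + 1 = m) :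
    HomologicalComplex.homologyMap φ n ≫ δ φ n m h = 0 := by
  have e := (HomotopyCategory.homologyFunctorFactors (ModuleCat.{u} R) (ComplexShape.up ℤ) n).inv.naturality φ
  dsimp only [δ]
  erw [← Category.assoc, e, Category.assoc, ← Category.assoc _ ((H0 (R := R)).homologySequenceδ _ n m h),
    (H0 (R := R)).comp_homologySequenceδ _ (cocone_distinguished φ) n m h]
  erw [zero_comp, comp_zero]

theorem exact_mid_zero (n : ℤ) :
    HomologicalComplex.homologyMap (mappingCocone.fst φ) n ≫ HomologicalComplex.homologyMap φ n = 0 := by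
  have e := (H0 (R := R)).homologySequence_comp _ (cocone_distinguished φ) n
  have e1 := (HomotopyCategory.homologyFunctorFactors (ModuleCat.{u} R) (ComplexShape.up ℤ) n).hom.naturality
    (mappingCocone.fst φ)
  have e2 := (HomotopyCategory.homologyFunctorFactors (ModuleCat.{u} R) (ComplexShape.up ℤ) n).hom.naturality φ
  refine (cancel_epi ((HomotopyCategory.homologyFunctorFactors (ModuleCat.{u} R)
    (ComplexShape.up ℤ) n).hom.app (mappingCocone φ))).1 ?_
  erw [← Category.assoc, ← e1, Category.assoc, ← e2, ← Category.assoc, e]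
  erw [zero_comp, comp_zero]

theorem exact_mid (n : ℤ) :
    (ShortComplex.mk _ _ (exact_mid_zero φ n)).Exact :=
  ShortComplex.exact_of_iso
    (ShortComplex.isoMk ((HomotopyCategory.homologyFunctorFactors _ _ n).app (mappingCocone φ))
      ((HomotopyCategory.homologyFunctorFactors _ _ n).app K)
      ((HomotopyCategory.homologyFunctorFactors _ _ n).app L)
      ((HomotopyCategory.homologyFunctorFactors _ _ n).hom.naturality (mappingCocone.fst φ)).symm
      ((HomotopyCategory.homologyFunctorFactors _ _ n).hom.naturality φ).symm)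
    ((H0 (R := R)).homologySequence_exact₂ _ (cocone_distinguished φ) n)

theorem exact_cocone (n m : ℤ) (h : n + 1 = m) :
    (ShortComplex.mk (δ φ n m h) (HomologicalComplex.homologyMap (mappingCocone.fst φ) m)
      (δ_comp_fst φ n m h)).Exact :=
  ShortComplex.exact_of_iso
    (ShortComplex.isoMk ((HomotopyCategory.homologyFunctorFactors _ _ n).app L)
      ((HomotopyCategory.homologyFunctorFactors _ _ m).app (mappingCocone φ))
      ((HomotopyCategory.homologyFunctorFactors _ _ m).app K)
      (by dsimp [δ]; exact Iso.hom_inv_id_app_assoc _ _ _)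
      ((HomotopyCategory.homologyFunctorFactors _ _ m).hom.naturality (mappingCocone.fst φ)).symm)
    ((H0 (R := R)).homologySequence_exact₁ _ (cocone_distinguished φ) n m h)

theorem exact_right (n m : ℤ) (h : n + 1 = m) :
    (ShortComplex.mk (HomologicalComplex.homologyMap φ n) (δ φ n m h) (map_comp_δ φ n m h)).Exact :=
  ShortComplex.exact_of_iso
    (ShortComplex.isoMk ((HomotopyCategory.homologyFunctorFactors _ _ n).app K)
      ((HomotopyCategory.homologyFunctorFactors _ _ n).app L)
      ((HomotopyCategory.homologyFunctorFactors _ _ m).app (mappingCocone φ))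
      ((HomotopyCategory.homologyFunctorFactors _ _ n).hom.naturality φ).symm
      (by dsimp [δ]; exact Iso.hom_inv_id_app_assoc _ _ _))
    ((H0 (R := R)).homologySequence_exact₃ _ (cocone_distinguished φ) n m h)

/-- If the two sides vanish in homotopy category, so does the cocone. -/
theorem isZero_cocone (hK : IsZero (q.obj K)) (hL : IsZero (q.obj L)) :
    IsZero (q.obj (mappingCocone φ)) :=
  (Triangle.isZero₁_iff_isIso₂ _ (cocone_distinguished φ)).2
    ⟨0, hK.eq_of_src _ _, hL.eq_of_src _ _⟩

theorem isZero_cocone_of_isIso [IsIso φ] : IsZero (q.obj (mappingCocone φ)) :=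
  (Triangle.isZero₁_iff_isIso₂ _ (cocone_distinguished φ)).2
    (inferInstanceAs (IsIso ((q (R := R)).map φ)))

end Cocone

section Loc

theorem conj_of_eq {A B C D : ModuleCat.{u} R} (e : A ≅ B) (e' : C ≅ D) (g : B ⟶ D) (m : A ⟶ C)
    (h : g = e.inv ≫ m ≫ e'.hom) : m = e.hom ≫ g ≫ e'.inv := by
  simp [h]

variable (S : Submonoid R)

instance : (locFunctor (R := R) S).PreservesHomology :=
  Functor.preservesHomology_of_map_exact _ fun T hT => by
    rw [ShortComplex.ShortExact.moduleCat_exact_iff_function_exact] at hT ⊢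
    exact IsLocalizedModule.map_exact S (LocalizedModule.mkLinearMap S T.X₁)
      (LocalizedModule.mkLinearMap S T.X₂) (LocalizedModule.mkLinearMap S T.X₃) T.f.hom T.g.hom hT

/-- Homology commutes with the termwise localisation. -/
theorem isLocalizedModule_homologyMap (K : DRing.Cx R) (n : ℤ) :
    IsLocalizedModule S (HomologicalComplex.homologyMap (locCxUnit S K) n).hom := by
  have hmap : HomologicalComplex.homologyMap (locCxUnit S K) n =
      ShortComplex.homologyMap ((K.sc n).mapNatTrans (locUnit S)) := rfl
  have h := NatTrans.app_homology (locUnit S) (K.sc n)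
  rw [← hmap] at h
  rw [conj_of_eq _ _ _ _ h]
  haveI : IsLocalizedModule S ((locUnit S).app (K.sc n).homology).hom :=
    inferInstanceAs (IsLocalizedModule S (LocalizedModule.mkLinearMap S ↑(K.sc n).homology))
  haveI : IsLocalizedModule S ((locUnit S).app (K.sc n).homology ≫
      ((K.sc n).mapHomologyIso (locFunctor S)).inv).hom :=
    IsLocalizedModule.of_linearEquiv S ((locUnit S).app (K.sc n).homology).hom
      ((K.sc n).mapHomologyIso (locFunctor S)).symm.toLinearEquiv
  exact IsLocalizedModule.of_linearEquiv_right S ((locUnit S).app (K.sc n).homology ≫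
      ((K.sc n).mapHomologyIso (locFunctor S)).inv).hom
    ((K.sc n).mapHomologyIso (𝟭 (ModuleCat.{u} R))).toLinearEquiv

theorem isZero_locCx_homology {K : DRing.Cx R} {n : ℤ} (h : IsZero (K.homology n)) :
    IsZero (((locCx S).obj K).homology n) := by
  haveI := isLocalizedModule_homologyMap S K n
  rw [ModuleCat.isZero_iff_subsingleton] at h ⊢
  refine ⟨fun a b => ?_⟩
  obtain ⟨⟨x, s⟩, hx⟩ := IsLocalizedModule.surj S (HomologicalComplex.homologyMap (locCxUnit S K) n).hom a
  obtain ⟨⟨y, t⟩, hy⟩ := IsLocalizedModule.surj S (HomologicalComplex.homologyMap (locCxUnit S K) n).hom b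
  have e : ∀ (c : ((locCx S).obj K).homology n) (s : S), s • c = 0 → c = 0 := fun c s hc =>
    IsLocalizedModule.smul_injective (HomologicalComplex.homologyMap (locCxUnit S K) n).hom s
      (by simpa using hc)
  rw [Subsingleton.elim x 0, map_zero] at hx
  rw [Subsingleton.elim y 0, map_zero] at hy
  rw [e a s hx, e b t hy]

theorem isLocalizedModule_bijective_of_isUnit {M : Type u} [AddCommGroup M] [Module R M] {N : Type u}
    [AddCommGroup N] [Module R N] (f : M →ₗ[R] N) [IsLocalizedModule S f]
    (h : ∀ s : S, Function.Bijective (fun m : M => (s : R) • m)) : Function.Bijective f := by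
  refine ⟨fun x y hxy => ?_, fun z => ?_⟩
  · obtain ⟨s, hs⟩ := (IsLocalizedModule.eq_iff_exists S f).1 hxy
    exact (h s).1 hs
  · obtain ⟨⟨x, s⟩, hx⟩ := IsLocalizedModule.surj S f z
    obtain ⟨w, hw⟩ := (h s).2 x
    refine ⟨w, IsLocalizedModule.smul_injective f s ?_⟩
    show (s : R) • f w = _
    rw [← map_smul, show (s : R) • w = x from hw]
    exact hx.symm

end Loc

section Props

theorem isZero_X (M : ModuleCat.{u} R) : ∀ (fs : List R) (p : ℤ), (p < 0 ∨ (fs.length : ℤ) < p) →
    IsZero ((extCech M fs).X p)
  | [], p, h => HomologicalComplex.isZero_single_obj_X _ _ _ _ (by simp at h; omega)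
  | f :: fs, p, h => by
    refine IsZero.of_iso ?_ (mappingCoconeXIso (locCxUnit (Submonoid.powers f) (extCech M fs)) p)
    rw [biprod_isZero_iff]
    refine ⟨isZero_X M fs p (by simp at h; omega), ?_⟩
    exact (locFunctor (Submonoid.powers f)).map_isZero (isZero_X M fs (p - 1) (by simp at h; omega))

theorem isZero_H (fs : List R) (M : ModuleCat.{u} R) (p : ℤ) (h : p < 0 ∨ (fs.length : ℤ) < p) :
    IsZero (extCechH fs M p) :=
  HomologicalComplex.ExactAt.isZero_homology
    (ShortComplex.exact_of_isZero_X₂ _ (isZero_X M fs p h))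

theorem isZero_H_nil (M : ModuleCat.{u} R) (p : ℤ) (h : p ≠ 0) : IsZero (extCechH [] M p) :=
  isZero_H [] M p (by simp; omega)

/-- Cohomology classes are killed by powers of each element. -/
theorem exists_pow_smul_eq_zero : ∀ (fs : List R) (M : ModuleCat.{u} R) (p : ℤ) (x : extCechH fs M p)
    (f : R), f ∈ fs → ∃ n : ℕ, f ^ n • x = 0 := by
  intro fs
  induction fs with
  | nil => intro M p x f hf; simp at hf
  | cons g gs ih =>
    intro M p x f hf
    let K := extCech M gs
    let φ := locCxUnit (Submonoid.powers g) K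
    obtain ⟨m, rfl⟩ : ∃ m, p = m + 1 := ⟨p - 1, by omega⟩
    haveI := fun i => isLocalizedModule_homologyMap (Submonoid.powers g) K i
    suffices h : ∀ x : (mappingCocone φ).homology (m + 1), ∃ n : ℕ, f ^ n • x = 0 from h x
    clear x
    intro x
    -- kill the image in the homology of `K`
    obtain ⟨a, ha⟩ : ∃ a : ℕ,
        (HomologicalComplex.homologyMap (mappingCocone.fst φ) (m + 1)).hom (f ^ a • x) = 0 := by
      rcases List.mem_cons.1 hf with rfl | hf'
      · have h0 : (HomologicalComplex.homologyMap φ (m + 1)).hom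
            ((HomologicalComplex.homologyMap (mappingCocone.fst φ) (m + 1)).hom x) = 0 :=
          ShortComplex.moduleCat_zero_apply (ShortComplex.mk _ _ (exact_mid_zero φ (m + 1))) x
        obtain ⟨⟨_, a, rfl⟩, ha⟩ :=
          (IsLocalizedModule.eq_zero_iff (Submonoid.powers f)
            (HomologicalComplex.homologyMap φ (m + 1)).hom).1 h0
        exact ⟨a, by rw [map_smul]; exact ha⟩
      · obtain ⟨a, ha⟩ := ih M (m + 1)
          ((HomologicalComplex.homologyMap (mappingCocone.fst φ) (m + 1)).hom x) f hf'
        exact ⟨a, by rw [map_smul]; exact ha⟩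
    obtain ⟨y, hy⟩ := (ShortComplex.moduleCat_exact_iff _).1 (exact_cocone φ m (m + 1) rfl) _ ha
    obtain ⟨b, hb⟩ : ∃ b : ℕ, f ^ b • (δ φ m (m + 1) rfl).hom y = 0 := by
      obtain ⟨⟨z, ⟨_, c, rfl⟩⟩, hz⟩ := IsLocalizedModule.surj (Submonoid.powers g)
        (HomologicalComplex.homologyMap φ m).hom y
      rcases List.mem_cons.1 hf with rfl | hf'
      · refine ⟨c, ?_⟩
        rw [← map_smul]
        erw [hz]
        exact ShortComplex.moduleCat_zero_apply (ShortComplex.mk _ _ (map_comp_δ φ m (m + 1) rfl)) z
      · obtain ⟨b, hb⟩ := ih M m z f hf'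
        refine ⟨b, ?_⟩
        rw [← map_smul, show f ^ b • y = 0 from ?_, map_zero]
        apply IsLocalizedModule.smul_injective (HomologicalComplex.homologyMap φ m).hom
          (⟨g ^ c, c, rfl⟩ : Submonoid.powers g)
        show g ^ c • f ^ b • y = (⟨g ^ c, _⟩ : Submonoid.powers g) • (0 : ((locCx _).obj K).homology m)
        rw [smul_zero, smul_comm]
        erw [hz]
        rw [← map_smul, hb, map_zero]
    exact ⟨b + a, by rw [pow_add, mul_smul, ← hy]; exact hb⟩

theorem exists_common_pow (fs : List R) (M : ModuleCat.{u} R) (p : ℤ) (x : extCechH fs M p) :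
    ∃ n : ℕ, 1 ≤ n ∧ ∀ f ∈ fs, f ^ n • x = 0 := by
  choose n hn using fun f : {f // f ∈ fs} => exists_pow_smul_eq_zero fs M p x f.1 f.2
  refine ⟨(fs.attach.map n).sum + 1, by omega, fun f hf => ?_⟩
  have hle : n ⟨f, hf⟩ ≤ (fs.attach.map n).sum :=
    List.single_le_sum (fun _ _ => Nat.zero_le _) _ (List.mem_map_of_mem (List.mem_attach _ _))
  rw [show (fs.attach.map n).sum + 1 = ((fs.attach.map n).sum + 1 - n ⟨f, hf⟩) + n ⟨f, hf⟩ by omega,
    pow_add, mul_smul, hn ⟨f, hf⟩, smul_zero]

theorem isIso_smul_of_iso {f : R} {X Y : ModuleCat.{u} R} (e : X ≅ Y) [IsIso (f • 𝟙 Y)] :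
    IsIso (f • 𝟙 X) := by
  rw [show f • 𝟙 X = e.hom ≫ (f • 𝟙 Y) ≫ e.inv by simp]
  infer_instance

theorem isIso_smul_biprod {f : R} {X Y : ModuleCat.{u} R} [IsIso (f • 𝟙 X)] [IsIso (f • 𝟙 Y)] :
    IsIso (f • 𝟙 (X ⊞ Y)) := by
  rw [show f • 𝟙 (X ⊞ Y) = (biprod.mapIso (asIso (f • 𝟙 X)) (asIso (f • 𝟙 Y))).hom by
    refine biprod.hom_ext _ _ ?_ ?_ <;> simp]
  infer_instance

theorem smul_bijective_X (M : ModuleCat.{u} R) (f : R) (hf : Function.Bijective (fun m : M => f • m)) :
    ∀ (fs : List R) (p : ℤ), IsIso (f • 𝟙 ((extCech M fs).X p)) := by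
  intro fs
  induction fs with
  | nil =>
    intro p
    by_cases hp : p = 0
    · subst hp
      haveI : IsIso (f • 𝟙 M) := (ConcreteCategory.isIso_iff_bijective _).2 hf
      exact isIso_smul_of_iso (HomologicalComplex.singleObjXSelf (ComplexShape.up ℤ) 0 M)
    · exact ⟨0, (isZero_X M [] p (by simp; omega)).eq_of_src _ _,
        (isZero_X M [] p (by simp; omega)).eq_of_src _ _⟩
  | cons g gs ih =>
    intro p
    let e := mappingCoconeXIso (locCxUnit (Submonoid.powers g) (extCech M gs)) p
    haveI := ih p
    haveI := ih (p - 1)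
    have hbL : Function.Bijective
        (fun m : LocalizedModule (Submonoid.powers g) ((extCech M gs).X (p - 1)) => f • m) := by
      have hb : Function.Bijective (fun m : (extCech M gs).X (p - 1) => f • m) :=
        ConcreteCategory.bijective_of_isIso (f • 𝟙 ((extCech M gs).X (p - 1)))
      constructor
      · intro a b hab
        induction a using LocalizedModule.induction_on with
        | h a s =>
          induction b using LocalizedModule.induction_on with
          | h b t =>
            simp only [LocalizedModule.smul'_mk, LocalizedModule.mk_eq] at hab ⊢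
            obtain ⟨v, hv⟩ := hab
            refine ⟨v, hb.1 ?_⟩
            simp only [Submonoid.smul_def, smul_comm f] at hv ⊢
            exact hv
      · intro a
        induction a using LocalizedModule.induction_on with
        | h a s =>
          obtain ⟨c, hc⟩ := hb.2 a
          exact ⟨LocalizedModule.mk c s, by simp [LocalizedModule.smul'_mk, show f • c = a from hc]⟩
    haveI : IsIso (f • 𝟙 (((locCx (Submonoid.powers g)).obj (extCech M gs)).X (p - 1))) :=
      (ConcreteCategory.isIso_iff_bijective _).2 hbL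
    haveI := isIso_smul_biprod (f := f) (X := (extCech M gs).X p)
      (Y := ((locCx (Submonoid.powers g)).obj (extCech M gs)).X (p - 1))
    exact isIso_smul_of_iso e

theorem smul_bijective_H (M : ModuleCat.{u} R) (f : R) (hf : Function.Bijective (fun m : M => f • m))
    (fs : List R) (p : ℤ) : Function.Bijective (fun x : extCechH fs M p => f • x) := by
  haveI : ∀ i, IsIso ((f • 𝟙 (extCech M fs)).f i) := fun i => smul_bijective_X M f hf fs i
  haveI : IsIso (f • 𝟙 (extCech M fs)) := HomologicalComplex.Hom.isIso_of_components _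
  have h := ConcreteCategory.bijective_of_isIso (HomologicalComplex.homologyMap (f • 𝟙 (extCech M fs)) p)
  have e : HomologicalComplex.homologyMap (f • 𝟙 (extCech M fs)) p = f • 𝟙 _ := by
    refine (ShortComplex.homologyMap_smul (𝟙 ((extCech M fs).sc p)) f).trans ?_
    rw [ShortComplex.homologyMap_id]
    rfl
  rw [e] at h
  exact h

theorem isZero_of_smul_bijective (fs : List R) (M : ModuleCat.{u} R) (f : R)
    (hf : f ∈ Ideal.span {a : R | a ∈ fs}) (hb : Function.Bijective (fun m : M => f • m)) (p : ℤ) :
    IsZero (extCechH fs M p) := by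
  rw [ModuleCat.isZero_iff_subsingleton]
  refine subsingleton_of_forall_eq 0 fun x => ?_
  obtain ⟨n, -, hn⟩ := exists_common_pow fs M p x
  have hle : Ideal.span {a : R | a ∈ fs} ≤ (Ideal.torsionOf R _ x).radical :=
    Ideal.span_le.2 fun g hg => ⟨n, hn g hg⟩
  obtain ⟨k, hk⟩ := hle hf
  have hk' : f ^ k • x = 0 := hk
  clear hk hle hn
  induction k with
  | zero => simpa using hk'
  | succ k ih =>
    rw [pow_succ', mul_smul] at hk'
    exact ih ((smul_bijective_H M f hb fs p).1 (hk'.trans (smul_zero f).symm))

theorem contractible (M : ModuleCat.{u} R) : ∀ (fs : List R), (∃ f ∈ fs, IsUnit f) →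
    IsZero (q.obj (extCech M fs)) := by
  intro fs
  induction fs with
  | nil => rintro ⟨f, hf, -⟩; simp at hf
  | cons g gs ih =>
    rintro ⟨f, hf, hu⟩
    rcases List.mem_cons.1 hf with rfl | hf'
    · haveI : IsIso (locCxUnit (Submonoid.powers f) (extCech M gs)) := by
        haveI : ∀ i, IsIso ((locCxUnit (Submonoid.powers f) (extCech M gs)).f i) := fun i => by
          refine (ConcreteCategory.isIso_iff_bijective _).2 ?_
          refine isLocalizedModule_bijective_of_isUnit (Submonoid.powers f)
            (LocalizedModule.mkLinearMap (Submonoid.powers f) ((extCech M gs).X i)) fun s => ?_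
          obtain ⟨_, k, rfl⟩ := s
          exact (hu.pow k).smul_bijective
        exact HomologicalComplex.Hom.isIso_of_components _
      exact isZero_cocone_of_isIso _
    · have hK := ih ⟨f, hf', hu⟩
      refine isZero_cocone _ hK ?_
      obtain ⟨h⟩ := (HomotopyCategory.isZero_quotient_obj_iff _).1 hK
      refine (HomotopyCategory.isZero_quotient_obj_iff _).2 ⟨?_⟩
      exact (Homotopy.ofEq ((locCx (Submonoid.powers g)).map_id _).symm).trans
        (((locFunctor (Submonoid.powers g)).mapHomotopy h).trans
          (Homotopy.ofEq ((locCx (Submonoid.powers g)).map_zero _ _)))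

end Props

end GrothLib.ExtCech
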