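import Groth.Agent.Lib.ExtCech.Basic
import Groth.Prelude.Def_DRing3
import Mathlib.Algebra.Homology.HomologySequence
import Mathlib.Algebra.Homology.SingleHomology
import Mathlib.RingTheory.Ideal.Operations

/-!
# Functoriality of the extended Čech complex, exactness, and degree zero
-/

universe u

open CategoryTheory Limits CochainComplex CochainComplex.HomComplex DerCA

namespace GrothLib.ExtCech

variable {R : Type u} [CommRing R]

section Cocone

variable {K L : DRing.Cx R} (φ : K ⟶ L)

theorem δ_snd :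
    HomComplex.δ (-1) 0 (mappingCocone.snd φ) + Cochain.ofHom (mappingCocone.fst φ ≫ φ) = 0 := by
  have h1 : mappingCocone.liftCochain φ (Cochain.ofHom (mappingCocone.fst φ)) (mappingCocone.snd φ)
      (by norm_num : (-1 : ℤ) + 1 = 0) = Cochain.ofHom (𝟙 (mappingCocone φ)) := by
    refine Cochain.ext₀ _ _ fun p => ?_
    rw [Cochain.ofHom_v]
    conv_lhs => rw [← Category.comp_id ((mappingCocone.liftCochain φ _ _ _).v p p _),
      ← mappingCocone.id_X φ p (p - 1) (by omega)]
    rw [Preadditive.comp_add, mappingCocone.liftCochain_v_fst_f_assoc,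
      mappingCocone.liftCochain_v_snd_v_assoc, Cochain.ofHom_v]
    exact mappingCocone.id_X φ p (p - 1) (by omega)
  have h2 := mappingCocone.δ_liftCochain φ (Cochain.ofHom (mappingCocone.fst φ)) (mappingCocone.snd φ)
    (by norm_num : (-1 : ℤ) + 1 = 0) 1 (zero_add 1)
  rw [h1, HomComplex.δ_ofHom, HomComplex.δ_ofHom, Cochain.zero_comp, zero_sub, eq_comm, neg_eq_zero,
    ← Cochain.ofHom_comp] at h2
  refine Cochain.ext₀ _ _ fun p => ?_
  have h3 := congrArg (fun c => c.v p (p + 1) rfl ≫ (mappingCocone.snd φ).v (p + 1) p (by omega)) h2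
  simp only [Cochain.comp_v _ _ _ p p (p + 1) (add_zero p) rfl, Category.assoc,
    mappingCocone.inr_v_snd_v, Category.comp_id, Cochain.zero_v, zero_comp] at h3
  rw [Cochain.zero_v]
  exact h3

/-- Joint injectivity of the two projections. -/
theorem cocone_ext {X : ModuleCat.{u} R} {p : ℤ} {a b : X ⟶ (mappingCocone φ).X p}
    (h1 : a ≫ (mappingCocone.fst φ).f p = b ≫ (mappingCocone.fst φ).f p)
    (h2 : a ≫ (mappingCocone.snd φ).v p (p - 1) (by omega) = b ≫ (mappingCocone.snd φ).v p (p - 1) (by omega)) :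
    a = b := by
  rw [← Category.comp_id a, ← Category.comp_id b, ← mappingCocone.id_X φ p (p - 1) (by omega),
    Preadditive.comp_add, Preadditive.comp_add, reassoc_of% h1, reassoc_of% h2]

theorem cocone_ext_apply {p : ℤ} {a b : (mappingCocone φ).X p}
    (h1 : ((mappingCocone.fst φ).f p).hom a = ((mappingCocone.fst φ).f p).hom b)
    (h2 : ((mappingCocone.snd φ).v p (p - 1) (by omega)).hom a =
      ((mappingCocone.snd φ).v p (p - 1) (by omega)).hom b) :
    a = b := by
  have h := fun x : (mappingCocone φ).X p => congrArg (fun k => k.hom x)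
    (mappingCocone.id_X φ p (p - 1) (by omega))
  simp only [ModuleCat.hom_add, ModuleCat.hom_comp, ModuleCat.hom_id, LinearMap.add_apply,
    LinearMap.comp_apply, LinearMap.id_apply] at h
  rw [← h a, ← h b, h1, h2]

theorem exists_cocone_elt {p : ℤ} (a : K.X p) (b : L.X (p - 1)) :
    ∃ c : (mappingCocone φ).X p, ((mappingCocone.fst φ).f p).hom c = a ∧
      ((mappingCocone.snd φ).v p (p - 1) (by omega)).hom c = b := by
  refine ⟨((mappingCocone.inl φ).v p p (add_zero p)).hom a +
    ((mappingCocone.inr φ).1.v (p - 1) p (by omega)).hom b, ?_, ?_⟩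
  · have e1 := congrArg (fun k => k.hom a) (mappingCocone.inl_v_fst_f φ p)
    have e2 := congrArg (fun k => k.hom b) (mappingCocone.inr_v_fst_f φ (p - 1) p (by omega))
    simp only [ModuleCat.hom_comp, ModuleCat.hom_id, LinearMap.comp_apply, LinearMap.id_apply,
      ModuleCat.hom_zero, LinearMap.zero_apply] at e1 e2
    rw [map_add, e1, e2, add_zero]
  · have e1 := congrArg (fun k => k.hom a) (mappingCocone.inl_v_snd_v φ p (p - 1) (by omega))
    have e2 := congrArg (fun k => k.hom b) (mappingCocone.inr_v_snd_v φ (p - 1) p (by omega))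
    simp only [ModuleCat.hom_comp, ModuleCat.hom_id, LinearMap.comp_apply, LinearMap.id_apply,
      ModuleCat.hom_zero, LinearMap.zero_apply] at e1 e2
    rw [map_add, e1, e2, zero_add]

variable {K' L' : DRing.Cx R} (φ' : K' ⟶ L') (a : K ⟶ K') (b : L ⟶ L') (h : φ ≫ b = a ≫ φ')

/-- The map of cocones of a commutative square. -/
noncomputable def coconeMap : mappingCocone φ ⟶ mappingCocone φ' :=
  mappingCocone.lift φ' (mappingCocone.fst φ ≫ a)
    ((mappingCocone.snd φ).comp (Cochain.ofHom b) (add_zero _)) (by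
      rw [HomComplex.δ_comp_ofHom, eq_neg_of_add_eq_zero_left (δ_snd φ)]
      simp [← Cochain.ofHom_comp, h])

@[reassoc]
theorem coconeMap_fst :
    coconeMap φ φ' a b h ≫ mappingCocone.fst φ' = mappingCocone.fst φ ≫ a :=
  mappingCocone.lift_fst _ _ _ _

@[reassoc]
theorem coconeMap_fst_f (p : ℤ) :
    (coconeMap φ φ' a b h).f p ≫ (mappingCocone.fst φ').f p = (mappingCocone.fst φ).f p ≫ a.f p :=
  mappingCocone.lift_f_fst_f _ _ _ _ p

@[reassoc]
theorem coconeMap_snd (p q : ℤ) (hpq : p + -1 = q) :
    (coconeMap φ φ' a b h).f p ≫ (mappingCocone.snd φ').v p q hpq =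
      (mappingCocone.snd φ).v p q hpq ≫ b.f q := by
  rw [coconeMap, mappingCocone.lift_f_snd_v]
  simp

theorem coconeMap_fst_apply (p : ℤ) (x : (mappingCocone φ).X p) :
    ((mappingCocone.fst φ').f p).hom ((coconeMap φ φ' a b h).f p x) =
      (a.f p).hom (((mappingCocone.fst φ).f p).hom x) :=
  congrArg (fun k => k.hom x) (coconeMap_fst_f φ φ' a b h p)

theorem coconeMap_snd_apply (p q : ℤ) (hpq : p + -1 = q) (x : (mappingCocone φ).X p) :
    ((mappingCocone.snd φ').v p q hpq).hom ((coconeMap φ φ' a b h).f p x) =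
      (b.f q).hom (((mappingCocone.snd φ).v p q hpq).hom x) :=
  congrArg (fun k => k.hom x) (coconeMap_snd φ φ' a b h p q hpq)

end Cocone

section Map

instance (S : Submonoid R) : PreservesFiniteLimits (locFunctor (R := R) S) :=
  Functor.preservesFiniteLimits_of_preservesHomology _

instance (S : Submonoid R) : PreservesFiniteColimits (locFunctor (R := R) S) :=
  Functor.preservesFiniteColimits_of_preservesHomology _

theorem locCxUnit_naturality (S : Submonoid R) {K K' : DRing.Cx R} (a : K ⟶ K') :
    locCxUnit S K ≫ (locCx S).map a = a ≫ locCxUnit S K' := by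
  ext i : 1
  exact ((locUnit S).naturality (a.f i)).symm

variable {M N P : ModuleCat.{u} R}

/-- Functoriality of the extended Čech complex in the module. -/
noncomputable def cxMap (g : M ⟶ N) : ∀ fs : List R, extCech M fs ⟶ extCech N fs
  | [] => (HomologicalComplex.single (ModuleCat.{u} R) (ComplexShape.up ℤ) 0).map g
  | f :: fs => coconeMap _ _ (cxMap g fs) ((locCx (Submonoid.powers f)).map (cxMap g fs))
      (locCxUnit_naturality _ _)

theorem cxMap_fst (g : M ⟶ N) (f : R) (fs : List R) (p : ℤ) (x : (extCech M (f :: fs)).X p) :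
    ((mappingCocone.fst (locCxUnit (Submonoid.powers f) (extCech N fs))).f p).hom
        (((cxMap g (f :: fs)).f p).hom x) =
      ((cxMap g fs).f p).hom (((mappingCocone.fst (locCxUnit (Submonoid.powers f) (extCech M fs))).f p).hom x) :=
  coconeMap_fst_apply _ _ _ _ (locCxUnit_naturality _ (cxMap g fs)) p x

theorem cxMap_snd (g : M ⟶ N) (f : R) (fs : List R) (p : ℤ) (x : (extCech M (f :: fs)).X p) :
    ((mappingCocone.snd (locCxUnit (Submonoid.powers f) (extCech N fs))).v p (p - 1) (by omega)).hom
        (((cxMap g (f :: fs)).f p).hom x) =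
      ((locFunctor (Submonoid.powers f)).map ((cxMap g fs).f (p - 1))).hom
        (((mappingCocone.snd (locCxUnit (Submonoid.powers f) (extCech M fs))).v p (p - 1) (by omega)).hom x) :=
  coconeMap_snd_apply _ _ _ _ (locCxUnit_naturality _ (cxMap g fs)) p (p - 1) (by omega) x

theorem cxMap_comp_zero (g : M ⟶ N) (g' : N ⟶ P) (h : g ≫ g' = 0) :
    ∀ fs : List R, cxMap g fs ≫ cxMap g' fs = 0 := by
  intro fs
  induction fs with
  | nil =>
    show (HomologicalComplex.single _ _ _).map g ≫ (HomologicalComplex.single _ _ _).map g' = 0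
    rw [← Functor.map_comp, h, Functor.map_zero]
  | cons f fs ih =>
    ext p : 1
    refine cocone_ext _ ?_ ?_
    · show ((coconeMap _ _ _ _ _).f p ≫ (coconeMap _ _ _ _ _).f p) ≫ _ = 0 ≫ _
      rw [Category.assoc, coconeMap_fst_f, coconeMap_fst_f_assoc, ← HomologicalComplex.comp_f, ih,
        HomologicalComplex.zero_f, comp_zero, zero_comp]
    · show ((coconeMap _ _ _ _ _).f p ≫ (coconeMap _ _ _ _ _).f p) ≫ _ = 0 ≫ _
      rw [Category.assoc, coconeMap_snd, coconeMap_snd_assoc, ← HomologicalComplex.comp_f,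
        ← Functor.map_comp, ih, Functor.map_zero, HomologicalComplex.zero_f, comp_zero, zero_comp]

/-- The extended Čech complexes of a short complex of modules. -/
noncomputable abbrev cxShort (fs : List R) (S : ShortComplex (ModuleCat.{u} R)) :
    ShortComplex (DRing.Cx R) :=
  ShortComplex.mk (cxMap S.f fs) (cxMap S.g fs) (cxMap_comp_zero S.f S.g S.zero fs)

set_option maxHeartbeats 400000 in
theorem cxShort_shortExact {S : ShortComplex (ModuleCat.{u} R)} (hS : S.ShortExact) :
    ∀ fs : List R, (cxShort fs S).ShortExact := by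
  intro fs
  induction fs with
  | nil => exact hS.map_of_exact (HomologicalComplex.single (ModuleCat.{u} R) (ComplexShape.up ℤ) 0)
  | cons f fs ih =>
    refine HomologicalComplex.shortExact_of_degreewise_shortExact _ fun p => ?_
    have hK := ih.map_of_exact (HomologicalComplex.eval (ModuleCat.{u} R) (ComplexShape.up ℤ) p)
    have hL := (ih.map_of_exact (HomologicalComplex.eval (ModuleCat.{u} R) (ComplexShape.up ℤ) (p - 1))).map_of_exact
      (locFunctor (Submonoid.powers f))
    have iK := (ModuleCat.mono_iff_injective _).1 hK.mono_f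
    have iL := (ModuleCat.mono_iff_injective _).1 hL.mono_f
    have sK := (ModuleCat.epi_iff_surjective _).1 hK.epi_g
    have sL := (ModuleCat.epi_iff_surjective _).1 hL.epi_g
    have eK := (ShortComplex.moduleCat_exact_iff _).1 hK.exact
    have eL := (ShortComplex.moduleCat_exact_iff _).1 hL.exact
    refine { exact := ?_, mono_f := ?_, epi_g := ?_ }
    · rw [ShortComplex.moduleCat_exact_iff]
      intro x hx
      change ((cxMap S.g (f :: fs)).f p).hom x = 0 at hx
      obtain ⟨y, hy⟩ := eK _ (((cxMap_fst S.g f fs p x).symm.trans (congrArg _ hx)).trans (map_zero _))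
      obtain ⟨z, hz⟩ := eL _ (((cxMap_snd S.g f fs p x).symm.trans (congrArg _ hx)).trans (map_zero _))
      obtain ⟨w, hw1, hw2⟩ := exists_cocone_elt (locCxUnit (Submonoid.powers f) (extCech S.X₁ fs)) y z
      refine ⟨w, cocone_ext_apply (locCxUnit (Submonoid.powers f) (extCech S.X₂ fs)) ?_ ?_⟩
      · exact ((cxMap_fst S.f f fs p w).trans (congrArg _ hw1)).trans hy
      · exact ((cxMap_snd S.f f fs p w).trans (congrArg _ hw2)).trans hz
    · refine (ModuleCat.mono_iff_injective _).2 fun x y hxy => ?_
      change ((cxMap S.f (f :: fs)).f p).hom x = ((cxMap S.f (f :: fs)).f p).hom y at hxy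
      refine cocone_ext_apply (locCxUnit (Submonoid.powers f) (extCech S.X₁ fs)) (iK ?_) (iL ?_)
      · exact ((cxMap_fst S.f f fs p x).symm.trans (congrArg _ hxy)).trans (cxMap_fst S.f f fs p y)
      · exact ((cxMap_snd S.f f fs p x).symm.trans (congrArg _ hxy)).trans (cxMap_snd S.f f fs p y)
    · refine (ModuleCat.epi_iff_surjective _).2 fun z => ?_
      obtain ⟨y, hy⟩ := sK (((mappingCocone.fst (locCxUnit (Submonoid.powers f) (extCech S.X₃ fs))).f p).hom z)
      obtain ⟨y', hy'⟩ := sL (((mappingCocone.snd (locCxUnit (Submonoid.powers f) (extCech S.X₃ fs))).v p (p - 1)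
        (by omega)).hom z)
      obtain ⟨w, hw1, hw2⟩ := exists_cocone_elt (locCxUnit (Submonoid.powers f) (extCech S.X₂ fs)) y y'
      refine ⟨w, cocone_ext_apply (locCxUnit (Submonoid.powers f) (extCech S.X₃ fs)) ?_ ?_⟩
      · exact ((cxMap_fst S.g f fs p w).trans (congrArg _ hw1)).trans hy
      · exact ((cxMap_snd S.g f fs p w).trans (congrArg _ hw2)).trans hy'

end Map

section Zero

/-- The augmentation `H^0 ⟶ M`. -/
noncomputable def aug (M : ModuleCat.{u} R) : ∀ fs : List R, extCechH fs M 0 ⟶ M
  | [] => (HomologicalComplex.singleObjHomologySelfIso (ComplexShape.up ℤ) 0 M).hom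
  | f :: fs => HomologicalComplex.homologyMap
      (mappingCocone.fst (locCxUnit (Submonoid.powers f) (extCech M fs))) 0 ≫ aug M fs

theorem aug_naturality {M N : ModuleCat.{u} R} (g : M ⟶ N) : ∀ fs : List R,
    HomologicalComplex.homologyMap (cxMap g fs) 0 ≫ aug N fs = aug M fs ≫ g := by
  intro fs
  induction fs with
  | nil => exact HomologicalComplex.singleObjHomologySelfIso_hom_naturality _ _ g
  | cons f fs ih =>
    show HomologicalComplex.homologyMap (coconeMap _ _ _ _ _) 0 ≫
      HomologicalComplex.homologyMap _ 0 ≫ aug N fs = (HomologicalComplex.homologyMap _ 0 ≫ aug M fs) ≫ g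
    rw [← HomologicalComplex.homologyMap_comp_assoc, coconeMap_fst,
      HomologicalComplex.homologyMap_comp_assoc, ih, Category.assoc]

theorem aug_naturality_apply {M N : ModuleCat.{u} R} (g : M ⟶ N) (fs : List R) (x : extCechH fs M 0) :
    (aug N fs).hom ((HomologicalComplex.homologyMap (cxMap g fs) 0).hom x) = g.hom ((aug M fs).hom x) :=
  congrArg (fun k => k.hom x) (aug_naturality g fs)

theorem aug_injective_and_range (M : ModuleCat.{u} R) : ∀ fs : List R,
    Function.Injective (aug M fs).hom ∧
      ∀ m : M, m ∈ LinearMap.range (aug M fs).hom ↔ ∀ f ∈ fs, ∃ n : ℕ, f ^ n • m = 0 := by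
  intro fs
  induction fs with
  | nil =>
    refine ⟨(HomologicalComplex.singleObjHomologySelfIso (ComplexShape.up ℤ) 0 M).toLinearEquiv.injective,
      fun m => ⟨fun _ => by simp, fun _ => ?_⟩⟩
    exact (HomologicalComplex.singleObjHomologySelfIso (ComplexShape.up ℤ) 0 M).toLinearEquiv.surjective m
  | cons f fs ih =>
    obtain ⟨ihi, ihr⟩ := ih
    let φ := locCxUnit (Submonoid.powers f) (extCech M fs)
    have hinj : Function.Injective (HomologicalComplex.homologyMap (mappingCocone.fst φ) 0).hom := by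
      refine (injective_iff_map_eq_zero _).2 fun x hx => ?_
      obtain ⟨y, rfl⟩ := (ShortComplex.moduleCat_exact_iff _).1 (exact_cocone φ (-1) 0 rfl) x hx
      haveI : Subsingleton (((locCx (Submonoid.powers f)).obj (extCech M fs)).homology (-1)) :=
        ModuleCat.isZero_iff_subsingleton.1 (isZero_locCx_homology _ (isZero_H fs M (-1) (by omega)))
      show (GrothLib.ExtCech.δ φ (-1) 0 rfl).hom y = 0
      rw [Subsingleton.elim (α := ((locCx (Submonoid.powers f)).obj (extCech M fs)).homology (-1)) y 0,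
        map_zero]
    refine ⟨fun x y hxy => hinj (ihi hxy), fun m => ⟨?_, fun hm => ?_⟩⟩
    · rintro ⟨x, rfl⟩ g hg
      obtain ⟨n, hn⟩ := exists_pow_smul_eq_zero (f :: fs) M 0 x g hg
      exact ⟨n, by rw [← map_smul, hn, map_zero]⟩
    · obtain ⟨z, rfl⟩ := (ihr m).2 fun g hg => hm g (List.mem_cons_of_mem _ hg)
      obtain ⟨n, hn⟩ := hm f List.mem_cons_self
      haveI := isLocalizedModule_homologyMap (Submonoid.powers f) (extCech M fs) 0
      have hz : (HomologicalComplex.homologyMap φ 0).hom z = 0 := by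
        refine (IsLocalizedModule.eq_zero_iff (Submonoid.powers f) _).2 ⟨⟨f ^ n, n, rfl⟩, ihi ?_⟩
        rw [map_zero]
        show (aug M fs).hom (f ^ n • z) = 0
        rw [map_smul]
        exact hn
      obtain ⟨x, hx⟩ := (ShortComplex.moduleCat_exact_iff _).1 (exact_mid φ 0) z hz
      refine ⟨x, ?_⟩
      show (aug M fs).hom _ = _
      exact congrArg _ hx

theorem mem_torsionSub_span_iff (fs : List R) {M : Type u} [AddCommGroup M] [Module R M] (m : M) :
    m ∈ DRing.torsionSub (Ideal.span {x | x ∈ fs}) M ↔ ∀ f ∈ fs, ∃ n : ℕ, f ^ n • m = 0 := by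
  constructor
  · rintro ⟨n, hn⟩ f hf
    exact ⟨n, hn _ (Ideal.pow_mem_pow (Ideal.subset_span (show f ∈ {x | x ∈ fs} from hf)) n)⟩
  · intro h
    have hle : Ideal.span {x | x ∈ fs} ≤ (Ideal.torsionOf R M m).radical :=
      Ideal.span_le.2 fun f hf => h f hf
    have hfg : (Ideal.span {x | x ∈ fs} : Ideal R).FG :=
      Submodule.fg_span (List.finite_toSet fs)
    obtain ⟨n, hn⟩ := Ideal.exists_pow_le_of_le_radical_of_fg hle hfg
    exact ⟨n, fun a ha => hn ha⟩

theorem range_aug (M : ModuleCat.{u} R) (fs : List R) :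
    LinearMap.range (aug M fs).hom = DRing.torsionSub (Ideal.span {x | x ∈ fs}) M := by
  ext m
  rw [(aug_injective_and_range M fs).2 m, mem_torsionSub_span_iff]

/-- `H^0` of the extended Čech complex is the power torsion. -/
noncomputable def augEquiv (M : ModuleCat.{u} R) (fs : List R) :
    extCechH fs M 0 ≃ₗ[R] DRing.torsionSub (Ideal.span {x | x ∈ fs}) M :=
  (LinearEquiv.ofInjective (aug M fs).hom (aug_injective_and_range M fs).1).trans
    (LinearEquiv.ofEq _ _ (range_aug M fs))

end Zero

end GrothLib.ExtCech
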