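import Groth.Agent.Lib.ExtCech.Functorial
import Groth.Agent.Lib.DCxRing.Covers
import Mathlib.RingTheory.Localization.BaseChange

/-!
# Base change of the extended Čech complex
-/

set_option autoImplicit false
universe u

open CategoryTheory Limits CochainComplex DerCA
open scoped TensorProduct

namespace GrothLib.ExtCech

section Aux

variable {A B : Type u} [CommRing A] [CommRing B] [Algebra A B]

/-- Base change of a localisation map is a localisation map. -/
theorem isLocalizedModule_baseChange {X Y : Type u} [AddCommGroup X] [Module A X] [AddCommGroup Y] [Module A Y]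
    (S : Submonoid A) (f : X →ₗ[A] Y) [IsLocalizedModule S f] :
    IsLocalizedModule (Algebra.algebraMapSubmonoid B S) (f.baseChange B) := by
  haveI : IsLocalizedModule S ((f.baseChange B).restrictScalars A) := by
    have h : (f.baseChange B).restrictScalars A = ((TensorProduct.comm A Y B).toLinearMap ∘ₗ
        (TensorProduct.AlgebraTensorModule.rTensor A B f)) ∘ₗ (TensorProduct.comm A B X).toLinearMap :=
      TensorProduct.ext' fun b x => rfl
    rw [h]
    exact IsLocalizedModule.of_linearEquiv_right S _ (TensorProduct.comm A B X)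
  exact IsLocalizedModule.of_restrictScalars (A := B) S _

end Aux

variable {A B : Type u} [CommRing A] [CommRing B] (φ : A →+* B)

noncomputable abbrev extS : ModuleCat.{u} A ⥤ ModuleCat.{u} B := ModuleCat.extendScalars.{u, u, u} φ

theorem map_powers (f : A) : (letI := φ.toAlgebra; Algebra.algebraMapSubmonoid B (Submonoid.powers f)) =
    Submonoid.powers (φ f) := by
  letI := φ.toAlgebra
  exact Algebra.algebraMapSubmonoid_powers f

theorem isLocalized_extS (f : A) (X : ModuleCat.{u} A) :
    IsLocalizedModule (Submonoid.powers (φ f)) ((extS φ).map ((locUnit (Submonoid.powers f)).app X)).hom := by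
  rw [← map_powers]
  letI := φ.toAlgebra
  exact isLocalizedModule_baseChange (B := B) (Submonoid.powers f) (LocalizedModule.mkLinearMap _ X)

/-- Base change commutes with localisation. -/
noncomputable def locExtIso (f : A) (X : ModuleCat.{u} A) :
    (extS φ).obj ((locFunctor (Submonoid.powers f)).obj X) ≅
      (locFunctor (Submonoid.powers (φ f))).obj ((extS φ).obj X) :=
  haveI := isLocalized_extS φ f X
  (IsLocalizedModule.iso (Submonoid.powers (φ f))
    ((extS φ).map ((locUnit (Submonoid.powers f)).app X)).hom).symm.toModuleIso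

theorem unit_locExtIso (f : A) (X : ModuleCat.{u} A) :
    (extS φ).map ((locUnit (Submonoid.powers f)).app X) ≫ (locExtIso φ f X).hom =
      (locUnit (Submonoid.powers (φ f))).app ((extS φ).obj X) := by
  haveI := isLocalized_extS φ f X
  exact ModuleCat.hom_ext (IsLocalizedModule.iso_symm_comp (Submonoid.powers (φ f))
    ((extS φ).map ((locUnit (Submonoid.powers f)).app X)).hom)

theorem locExtIso_naturality (f : A) {X Y : ModuleCat.{u} A} (g : X ⟶ Y) :
    (extS φ).map ((locFunctor (Submonoid.powers f)).map g) ≫ (locExtIso φ f Y).hom =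
      (locExtIso φ f X).hom ≫ (locFunctor (Submonoid.powers (φ f))).map ((extS φ).map g) := by
  haveI := isLocalized_extS φ f X
  refine ModuleCat.hom_ext (IsLocalizedModule.ext (Submonoid.powers (φ f))
    ((extS φ).map ((locUnit (Submonoid.powers f)).app X)).hom (fun s => IsLocalizedModule.map_units
      (LocalizedModule.mkLinearMap (Submonoid.powers (φ f)) ((extS φ).obj Y)) s) ?_)
  refine congrArg ModuleCat.Hom.hom (show (extS φ).map ((locUnit (Submonoid.powers f)).app X) ≫
    (extS φ).map ((locFunctor (Submonoid.powers f)).map g) ≫ (locExtIso φ f Y).hom =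
    (extS φ).map ((locUnit (Submonoid.powers f)).app X) ≫ (locExtIso φ f X).hom ≫
      (locFunctor (Submonoid.powers (φ f))).map ((extS φ).map g) from ?_)
  rw [← Category.assoc, ← Functor.map_comp, ← (locUnit (Submonoid.powers f)).naturality, Functor.map_comp,
    Category.assoc, unit_locExtIso, reassoc_of% (unit_locExtIso φ f X)]
  exact (locUnit (Submonoid.powers (φ f))).naturality _

/-- Base change of the localised complex. -/
noncomputable def locCxExtIso (f : A) (K : DRing.Cx A) :
    (DR.bc φ).obj ((locCx (Submonoid.powers f)).obj K) ≅ (locCx (Submonoid.powers (φ f))).obj ((DR.bc φ).obj K) :=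
  HomologicalComplex.Hom.isoOfComponents (fun i => locExtIso φ f (K.X i))
    (fun i j _ => (locExtIso_naturality φ f (K.d i j)).symm)

theorem unit_locCxExtIso (f : A) (K : DRing.Cx A) :
    (DR.bc φ).map (locCxUnit (Submonoid.powers f) K) ≫ (locCxExtIso φ f K).hom =
      locCxUnit (Submonoid.powers (φ f)) ((DR.bc φ).obj K) := by
  ext i : 1
  exact unit_locExtIso φ f (K.X i)

/-- Base change of the extended Čech complex. -/
theorem nonempty_bc_extCech (M : ModuleCat.{u} A) : ∀ fs : List A,
    Nonempty ((DR.bc φ).obj (extCech M fs) ≅ extCech ((extS φ).obj M) (fs.map φ)) := by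
  intro fs
  induction fs with
  | nil =>
    exact ⟨(HomologicalComplex.singleMapHomologicalComplex (extS φ) (ComplexShape.up ℤ) 0).app M⟩
  | cons f fs ih =>
    obtain ⟨e⟩ := ih
    let K := extCech M fs
    let ψ := locCxUnit (Submonoid.powers f) K
    let F := DR.bc φ
    let eL := locCxExtIso φ f K ≪≫ (locCx (Submonoid.powers (φ f))).mapIso e
    have hsq : F.map ψ ≫ eL.hom = e.hom ≫ locCxUnit (Submonoid.powers (φ f)) (extCech ((extS φ).obj M) (fs.map φ)) := by
      simp only [eL, Iso.trans_hom, Functor.mapIso_hom]
      rw [← Category.assoc, unit_locCxExtIso, locCxUnit_naturality]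
    let φ' := locCxUnit (Submonoid.powers (φ f)) (extCech ((extS φ).obj M) (fs.map φ))
    have hsq' : φ' ≫ eL.inv = e.inv ≫ F.map ψ := by
      rw [Iso.comp_inv_eq, Category.assoc, hsq, Iso.inv_hom_id_assoc]
    let cone : F.obj (mappingCone ψ) ≅ mappingCone φ' :=
      mappingCone.mapHomologicalComplexIso ψ (extS φ) ≪≫
      { hom := mappingCone.map (F.map ψ) φ' e.hom eL.hom hsq
        inv := mappingCone.map φ' (F.map ψ) e.inv eL.inv hsq'
        hom_inv_id := by
          rw [← mappingCone.map_comp]
          simp only [Iso.hom_inv_id]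
          exact mappingCone.map_id _
        inv_hom_id := by
          rw [← mappingCone.map_comp]
          simp only [Iso.inv_hom_id]
          exact mappingCone.map_id _ }
    exact ⟨(F.commShiftIso (-1 : ℤ)).app (mappingCone ψ) ≪≫
      (CategoryTheory.shiftFunctor (DRing.Cx B) (-1 : ℤ)).mapIso cone⟩

end GrothLib.ExtCech

namespace GrothLib.ExtCech

variable {A B : Type u} [CommRing A] [CommRing B] (φ : A →+* B)

/-- Base change of the ring is the ring. -/
theorem nonempty_extS_self : Nonempty ((extS φ).obj (ModuleCat.of A A) ≅ ModuleCat.of B B) := by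
  letI := φ.toAlgebra
  exact ⟨(TensorProduct.AlgebraTensorModule.rid A B B).toModuleIso⟩

end GrothLib.ExtCech
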