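import Groth.Agent.Lib.ExtCech.Functorial
import Groth.Agent.Lib.RGamma.CechModel
import Groth.Prelude.Def_LCI2
import Mathlib.Algebra.Homology.HomologySequenceLemmas
import Mathlib.Algebra.Homology.HomotopyCategory.ShiftSequence
import Mathlib.Algebra.Homology.HomotopyCategory.Pretriangulated

/-!
# The Koszul cocone functor: lowest cohomology of the extended Čech complex
-/

set_option autoImplicit false
universe u

open CategoryTheory Limits CochainComplex DerCA HomologicalComplex

namespace GrothLib.ExtCech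

variable {R : Type u} [CommRing R]

/-- Iterated cocones of multiplication. -/
noncomputable def kG : List R → DRing.Cx R → DRing.Cx R
  | [], X => X
  | f :: fs, X => mappingCocone (f • 𝟙 (kG fs X))

/-- Functoriality. -/
noncomputable def kGMap : ∀ (fs : List R) {X Y : DRing.Cx R}, (X ⟶ Y) → (kG fs X ⟶ kG fs Y)
  | [], _, _, φ => φ
  | f :: fs, _, _, φ => coconeMap _ _ (kGMap fs φ) (kGMap fs φ) (by simp)

theorem kGMap_zero : ∀ (fs : List R) (X Y : DRing.Cx R), kGMap fs (0 : X ⟶ Y) = 0 := by
  intro fs
  induction fs with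
  | nil => intros; rfl
  | cons f fs ih =>
    intro X Y
    ext p : 1
    refine cocone_ext _ ?_ ?_
    · show (coconeMap _ _ _ _ _).f p ≫ _ = 0 ≫ _
      rw [coconeMap_fst_f, ih, HomologicalComplex.zero_f, comp_zero, zero_comp]
    · show (coconeMap _ _ _ _ _).f p ≫ _ = 0 ≫ _
      rw [coconeMap_snd, ih, HomologicalComplex.zero_f, comp_zero, zero_comp]

theorem kGMap_comp : ∀ (fs : List R) {X Y Z : DRing.Cx R} (φ : X ⟶ Y) (ψ : Y ⟶ Z),
    kGMap fs φ ≫ kGMap fs ψ = kGMap fs (φ ≫ ψ) := by
  intro fs
  induction fs with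
  | nil => intros; rfl
  | cons f fs ih =>
    intro X Y Z φ ψ
    ext p : 1
    refine cocone_ext _ ?_ ?_
    · show ((coconeMap _ _ _ _ _).f p ≫ (coconeMap _ _ _ _ _).f p) ≫ _ = (coconeMap _ _ _ _ _).f p ≫ _
      rw [Category.assoc, coconeMap_fst_f, coconeMap_fst_f_assoc, coconeMap_fst_f, ← HomologicalComplex.comp_f, ih]
    · show ((coconeMap _ _ _ _ _).f p ≫ (coconeMap _ _ _ _ _).f p) ≫ _ = (coconeMap _ _ _ _ _).f p ≫ _
      rw [Category.assoc, coconeMap_snd, coconeMap_snd_assoc, coconeMap_snd, ← HomologicalComplex.comp_f, ih]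

/-- The functor preserves short exact sequences. -/
theorem kG_shortExact {S : ShortComplex (DRing.Cx R)} (hS : S.ShortExact) : ∀ fs : List R,
    (ShortComplex.mk (kGMap fs S.f) (kGMap fs S.g)
      (by rw [kGMap_comp, S.zero, kGMap_zero])).ShortExact := by
  intro fs
  induction fs with
  | nil => exact hS
  | cons f fs ih =>
    refine HomologicalComplex.shortExact_of_degreewise_shortExact _ fun p => ?_
    have hK := ih.map_of_exact (HomologicalComplex.eval (ModuleCat.{u} R) (ComplexShape.up ℤ) p)
    have hL := ih.map_of_exact (HomologicalComplex.eval (ModuleCat.{u} R) (ComplexShape.up ℤ) (p - 1))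
    have iK := (ModuleCat.mono_iff_injective _).1 hK.mono_f
    have iL := (ModuleCat.mono_iff_injective _).1 hL.mono_f
    have sK := (ModuleCat.epi_iff_surjective _).1 hK.epi_g
    have sL := (ModuleCat.epi_iff_surjective _).1 hL.epi_g
    have eK := (ShortComplex.moduleCat_exact_iff _).1 hK.exact
    have eL := (ShortComplex.moduleCat_exact_iff _).1 hL.exact
    let φ₁ := f • 𝟙 (kG fs S.X₁)
    let φ₂ := f • 𝟙 (kG fs S.X₂)
    let φ₃ := f • 𝟙 (kG fs S.X₃)
    have c₁ : φ₁ ≫ kGMap fs S.f = kGMap fs S.f ≫ φ₂ := by simp [φ₁, φ₂]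
    have c₂ : φ₂ ≫ kGMap fs S.g = kGMap fs S.g ≫ φ₃ := by simp [φ₂, φ₃]
    refine { exact := ?_, mono_f := ?_, epi_g := ?_ }
    · rw [ShortComplex.moduleCat_exact_iff]
      intro x hx
      change ((kGMap (f :: fs) S.g).f p).hom x = 0 at hx
      obtain ⟨y, hy⟩ := eK _ (((coconeMap_fst_apply φ₂ φ₃ _ _ c₂ p x).symm.trans
        (congrArg _ hx)).trans (map_zero _))
      obtain ⟨z, hz⟩ := eL _ (((coconeMap_snd_apply φ₂ φ₃ _ _ c₂ p (p - 1) (by omega) x).symm.trans
        (congrArg _ hx)).trans (map_zero _))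
      obtain ⟨w, hw1, hw2⟩ := exists_cocone_elt φ₁ y z
      refine ⟨w, cocone_ext_apply φ₂ ?_ ?_⟩
      · exact ((coconeMap_fst_apply φ₁ φ₂ _ _ c₁ p w).trans (congrArg _ hw1)).trans hy
      · exact ((coconeMap_snd_apply φ₁ φ₂ _ _ c₁ p (p - 1) (by omega) w).trans (congrArg _ hw2)).trans hz
    · refine (ModuleCat.mono_iff_injective _).2 fun x y hxy => ?_
      change ((kGMap (f :: fs) S.f).f p).hom x = ((kGMap (f :: fs) S.f).f p).hom y at hxy
      refine cocone_ext_apply φ₁ (iK ?_) (iL ?_)
      · exact ((coconeMap_fst_apply φ₁ φ₂ _ _ c₁ p x).symm.trans (congrArg _ hxy)).trans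
          (coconeMap_fst_apply φ₁ φ₂ _ _ c₁ p y)
      · exact ((coconeMap_snd_apply φ₁ φ₂ _ _ c₁ p (p - 1) (by omega) x).symm.trans (congrArg _ hxy)).trans
          (coconeMap_snd_apply φ₁ φ₂ _ _ c₁ p (p - 1) (by omega) y)
    · refine (ModuleCat.epi_iff_surjective _).2 fun z => ?_
      obtain ⟨y, hy⟩ := sK (((mappingCocone.fst φ₃).f p).hom z)
      obtain ⟨y', hy'⟩ := sL (((mappingCocone.snd φ₃).v p (p - 1) (by omega)).hom z)
      obtain ⟨w, hw1, hw2⟩ := exists_cocone_elt φ₂ y y'
      refine ⟨w, cocone_ext_apply φ₃ ?_ ?_⟩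
      · exact ((coconeMap_fst_apply φ₂ φ₃ _ _ c₂ p w).trans (congrArg _ hw1)).trans hy
      · exact ((coconeMap_snd_apply φ₂ φ₃ _ _ c₂ p (p - 1) (by omega) w).trans (congrArg _ hw2)).trans hy'

theorem isIso_smul_kG (g : R) (X : DRing.Cx R) (hX : ∀ p, IsIso (g • 𝟙 (X.X p))) :
    ∀ (fs : List R) (p : ℤ), IsIso (g • 𝟙 ((kG fs X).X p)) := by
  intro fs
  induction fs with
  | nil => exact hX
  | cons f fs ih =>
    intro p
    haveI := ih p
    haveI := ih (p - 1)
    haveI := isIso_smul_biprod (f := g) (X := (kG fs X).X p) (Y := (kG fs X).X (p - 1))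
    exact isIso_smul_of_iso (mappingCoconeXIso (f • 𝟙 (kG fs X)) p)

theorem smul_homology_eq (φ : DRing.Cx R) (f : R) (q : ℤ) (x : φ.homology q) :
    (HomologicalComplex.homologyMap (f • 𝟙 φ) q).hom x = f • x := by
  exact RGamma.homologyMap_smul_id (K := φ) (r := f) q x

theorem exists_pow_kills_kG (g : R) (X : DRing.Cx R) : ∀ (fs : List R), g ∈ fs →
    ∃ N : ℕ, ∀ (p : ℤ) (x : (kG fs X).homology p), g ^ N • x = 0 := by
  intro fs
  induction fs with
  | nil => intro h; simp at h
  | cons f fs ih =>
    intro hg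
    let φ := f • 𝟙 (kG fs X)
    have key : ∀ (a b : ℕ), (∀ p (x : (kG fs X).homology p), f • x = 0 → g ^ a • x = 0) →
        (∀ (n : ℤ) (y : (kG fs X).homology n), (g ^ b • y : (kG fs X).homology n) ∈
          LinearMap.range (HomologicalComplex.homologyMap φ n).hom) →
        ∀ (p : ℤ) (x : (mappingCocone φ).homology p), g ^ (b + a) • x = 0 := by
      intro a b h1 h2 p x
      have h0 : (HomologicalComplex.homologyMap (mappingCocone.fst φ) p).hom (g ^ a • x) = 0 := by
        rw [map_smul]
        refine h1 p _ ?_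
        rw [← smul_homology_eq]
        exact ShortComplex.moduleCat_zero_apply (ShortComplex.mk _ _ (exact_mid_zero φ p)) x
      obtain ⟨y, hy⟩ := (ShortComplex.moduleCat_exact_iff _).1 (exact_cocone φ (p - 1) p (by omega)) _ h0
      obtain ⟨z, hz⟩ := h2 (p - 1) y
      rw [pow_add, mul_smul, ← hy]
      show g ^ b • (δ φ (p - 1) p _).hom y = 0
      rw [← map_smul, ← hz]
      exact ShortComplex.moduleCat_zero_apply (ShortComplex.mk _ _ (map_comp_δ φ (p - 1) p (by omega))) z
    rcases List.mem_cons.1 hg with rfl | hg'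
    · exact ⟨1 + 1, key 1 1 (fun p x hx => by rwa [pow_one]) fun n y => ⟨y, by rw [pow_one]; exact smul_homology_eq _ _ _ y⟩⟩
    · obtain ⟨N, hN⟩ := ih hg'
      exact ⟨N + N, key N N (fun p x _ => hN p x) fun n y => by rw [hN n y]; exact zero_mem _⟩

theorem isZero_kG_of_bijective (fs : List R) (g : R) (hg : g ∈ fs) (X : DRing.Cx R)
    (hX : ∀ p, IsIso (g • 𝟙 (X.X p))) (p : ℤ) : IsZero ((kG fs X).homology p) := by
  obtain ⟨N, hN⟩ := exists_pow_kills_kG g X fs hg
  haveI : ∀ i, IsIso ((g • 𝟙 (kG fs X) : kG fs X ⟶ kG fs X).f i) := fun i => isIso_smul_kG g X hX fs i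
  haveI : IsIso (g • 𝟙 (kG fs X) : kG fs X ⟶ kG fs X) := HomologicalComplex.Hom.isIso_of_components _
  have hinj : Function.Injective (fun x : (kG fs X).homology p => g • x) := fun a b h =>
    (ConcreteCategory.bijective_of_isIso (HomologicalComplex.homologyMap (g • 𝟙 (kG fs X)) p)).1
      (((smul_homology_eq _ g p a).trans h).trans (smul_homology_eq _ g p b).symm)
  have hpow : ∀ (n : ℕ) (x : (kG fs X).homology p), g ^ n • x = 0 → x = 0 := by
    intro n
    induction n with
    | zero => intro x hx; simpa using hx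
    | succ n ih => intro x hx; exact ih x (hinj (by simpa [pow_succ', mul_smul] using hx))
  haveI : Subsingleton ((kG fs X).homology p) := subsingleton_of_forall_eq 0 fun x => hpow N x (hN p x)
  exact ModuleCat.isZero_of_subsingleton _

/-- The functor turns the projection of a cocone of a local complex into a quasi-isomorphism. -/
theorem isIso_kG_fst (fs : List R) (g : R) (hg : g ∈ fs) {K L : DRing.Cx R} (ψ : K ⟶ L)
    (hL : ∀ p, IsIso (g • 𝟙 (L.X p))) (p : ℤ) :
    IsIso (HomologicalComplex.homologyMap (kGMap fs (mappingCocone.fst ψ)) p) := by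
  let S := ShortComplex.mk (kernel.ι (mappingCocone.fst ψ)) (mappingCocone.fst ψ) (kernel.condition _)
  haveI : ∀ i, Epi ((mappingCocone.fst ψ).f i) := fun i =>
    (ModuleCat.epi_iff_surjective _).2 fun z => by
      obtain ⟨c, hc, -⟩ := exists_cocone_elt ψ z (0 : L.X (i - 1))
      exact ⟨c, hc⟩
  haveI : Epi (mappingCocone.fst ψ) := HomologicalComplex.epi_of_epi_f _ inferInstance
  have hS : S.ShortExact := { exact := ShortComplex.exact_of_f_is_kernel _ (kernelIsKernel _) }
  have hk : ∀ i, IsIso (g • 𝟙 (S.X₁.X i)) := fun i => by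
    have hSi := hS.map_of_exact (HomologicalComplex.eval (ModuleCat.{u} R) (ComplexShape.up ℤ) i)
    have hi := (ModuleCat.mono_iff_injective _).1 hSi.mono_f
    have he := (ShortComplex.moduleCat_exact_iff _).1 hSi.exact
    have hb : Function.Bijective (fun x : L.X (i - 1) => g • x) :=
      ConcreteCategory.bijective_of_isIso (g • 𝟙 (L.X (i - 1)))
    let sn := ((mappingCocone.snd ψ).v i (i - 1) (by omega)).hom
    let ft := ((mappingCocone.fst ψ).f i).hom
    have hz : ∀ x, ft ((S.f.f i).hom x) = 0 := fun x =>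
      ShortComplex.moduleCat_zero_apply (S.map (HomologicalComplex.eval (ModuleCat.{u} R) (ComplexShape.up ℤ) i)) x
    rw [ConcreteCategory.isIso_iff_bijective]
    change Function.Bijective (fun x : S.X₁.X i => g • x)
    refine ⟨fun a b hab => hi (cocone_ext_apply ψ ((hz a).trans (hz b).symm) (hb.1 ?_)), fun x => ?_⟩
    · exact ((map_smul sn g _).symm.trans (congrArg sn ((map_smul (S.f.f i).hom g a).symm.trans
        ((congrArg (S.f.f i).hom hab).trans (map_smul (S.f.f i).hom g b))))).trans (map_smul sn g _)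
    · obtain ⟨u, hu⟩ := hb.2 (sn ((S.f.f i).hom x))
      obtain ⟨c, hc1, hc2⟩ := exists_cocone_elt ψ (0 : K.X i) u
      obtain ⟨a, ha⟩ := he c hc1
      refine ⟨a, hi (cocone_ext_apply ψ ((hz _).trans (hz x).symm) ?_)⟩
      exact ((congrArg sn (map_smul (S.f.f i).hom g a)).trans ((map_smul sn g _).trans
        (congrArg (g • ·) ((congrArg sn ha).trans hc2)))).trans hu
  have hG := kG_shortExact hS fs
  have h0 := isZero_kG_of_bijective fs g hg S.X₁ hk
  haveI : Mono (HomologicalComplex.homologyMap (kGMap fs (mappingCocone.fst ψ)) p) :=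
    (hG.homology_exact₂ p).mono_g ((h0 p).eq_of_src _ _)
  haveI : Epi (HomologicalComplex.homologyMap (kGMap fs (mappingCocone.fst ψ)) p) :=
    (hG.homology_exact₃ p (p + 1) rfl).epi_f ((h0 (p + 1)).eq_of_tgt _ _)
  exact isIso_of_mono_of_epi _

/-- The Čech complex and the module have the same Koszul cohomology. -/
theorem nonempty_kG_extCech (fs : List R) (M : ModuleCat.{u} R) :
    ∀ (gs : List R), (∀ g ∈ gs, g ∈ fs) → ∀ p : ℤ,
      Nonempty ((kG fs (extCech M gs)).homology p ≅ (kG fs (extCech M [])).homology p) := by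
  intro gs
  induction gs with
  | nil => exact fun _ p => ⟨Iso.refl _⟩
  | cons g gs ih =>
    intro h p
    obtain ⟨e⟩ := ih (fun x hx => h x (List.mem_cons_of_mem _ hx)) p
    have := isIso_kG_fst fs g (h g List.mem_cons_self) (locCxUnit (Submonoid.powers g) (extCech M gs))
      (fun i => (ConcreteCategory.isIso_iff_bijective _).2 ((Module.End.isUnit_iff _).1 (IsLocalizedModule.map_units
        (LocalizedModule.mkLinearMap (Submonoid.powers g) ((extCech M gs).X i))
        (⟨g, Submonoid.mem_powers g⟩ : Submonoid.powers g)))) p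
    exact ⟨@asIso _ _ _ _ _ this ≪≫ e⟩

/-- Lowest cohomology. -/
theorem socle_kG (X : DRing.Cx R) (q : ℤ) (hX : ∀ p, p < q → IsZero (X.homology p)) :
    ∀ fs : List R, (∀ p, p < q → IsZero ((kG fs X).homology p)) ∧
      ∃ π : kG fs X ⟶ X, Function.Injective (HomologicalComplex.homologyMap π q).hom ∧
        ∀ z : X.homology q, (∀ f ∈ fs, f • z = 0) →
          z ∈ LinearMap.range (HomologicalComplex.homologyMap π q).hom := by
  intro fs
  induction fs with
  | nil =>
    refine ⟨hX, 𝟙 X, ?_, fun z _ => ⟨z, ?_⟩⟩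
    · exact fun a b h =>
        ((ConcreteCategory.congr_hom (HomologicalComplex.homologyMap_id X q) a).symm.trans h).trans
          (ConcreteCategory.congr_hom (HomologicalComplex.homologyMap_id X q) b)
    · exact ConcreteCategory.congr_hom (HomologicalComplex.homologyMap_id X q) z
  | cons f fs ih =>
    obtain ⟨h0, π, hinj, hrange⟩ := ih
    let φ := f • 𝟙 (kG fs X)
    have hfst : ∀ n, n ≤ q → Function.Injective (HomologicalComplex.homologyMap (mappingCocone.fst φ) n).hom := by
      intro n hn
      rw [← ModuleCat.mono_iff_injective]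
      exact (exact_cocone φ (n - 1) n (by omega)).mono_g ((h0 (n - 1) (by omega)).eq_of_src _ _)
    refine ⟨fun p hp => ?_, mappingCocone.fst φ ≫ π, ?_, fun z hz => ?_⟩
    · haveI := ModuleCat.subsingleton_of_isZero (h0 p hp)
      haveI : Subsingleton ((mappingCocone φ).homology p) := (hfst p hp.le).subsingleton
      exact ModuleCat.isZero_of_subsingleton ((mappingCocone φ).homology p)
    · intro a b hab
      have e := HomologicalComplex.homologyMap_comp (mappingCocone.fst φ) π q
      refine hfst q le_rfl (hinj ?_)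
      exact ((ConcreteCategory.congr_hom e a).symm.trans hab).trans (ConcreteCategory.congr_hom e b)
    · obtain ⟨w, hw⟩ := hrange z fun g hg => hz g (List.mem_cons_of_mem _ hg)
      have hfw : (HomologicalComplex.homologyMap φ q).hom w = 0 := by
        rw [smul_homology_eq]
        refine hinj ?_
        rw [map_smul, hw, map_zero]
        exact hz f List.mem_cons_self
      obtain ⟨v, hv⟩ := (ShortComplex.moduleCat_exact_iff _).1 (exact_mid φ q) w hfw
      refine ⟨v, ?_⟩
      exact ((ConcreteCategory.congr_hom (HomologicalComplex.homologyMap_comp (mappingCocone.fst φ) π q) v).trans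
        (congrArg (HomologicalComplex.homologyMap π q).hom hv)).trans hw

theorem nonempty_kG_koszul : ∀ fs : List R,
    Nonempty (kG fs (extCech (ModuleCat.of R R) []) ≅ (Koszul.koszul R fs)⟦-(fs.length : ℤ)⟧) := by
  intro fs
  induction fs with
  | nil =>
    exact ⟨((CategoryTheory.shiftFunctorZero' (DRing.Cx R) (-(([] : List R).length : ℤ)) (by simp)).app _).symm⟩
  | cons f fs ih =>
    obtain ⟨e⟩ := ih
    let K := Koszul.koszul R fs
    let n : ℤ := -(fs.length : ℤ)
    have hsq : (f • 𝟙 (kG fs (extCech (ModuleCat.of R R) []))) ≫ e.hom = e.hom ≫ ((f • 𝟙 K)⟦n⟧') := by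
      rw [Functor.map_smul, CategoryTheory.Functor.map_id, Linear.smul_comp, Linear.comp_smul, Category.id_comp,
        Category.comp_id]
    have hsq' : ((f • 𝟙 K)⟦n⟧') ≫ e.inv = e.inv ≫ (f • 𝟙 (kG fs (extCech (ModuleCat.of R R) []))) := by
      rw [Iso.comp_inv_eq, Category.assoc, hsq, Iso.inv_hom_id_assoc]
    let cone : mappingCone (f • 𝟙 (kG fs (extCech (ModuleCat.of R R) []))) ≅ mappingCone ((f • 𝟙 K)⟦n⟧') :=
      { hom := mappingCone.map _ _ e.hom e.hom hsq
        inv := mappingCone.map _ _ e.inv e.inv hsq'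
        hom_inv_id := by
          rw [← mappingCone.map_comp]
          simp only [Iso.hom_inv_id]
          exact mappingCone.map_id _
        inv_hom_id := by
          rw [← mappingCone.map_comp]
          simp only [Iso.inv_hom_id]
          exact mappingCone.map_id _ }
    exact ⟨(CategoryTheory.shiftFunctor (DRing.Cx R) (-1 : ℤ)).mapIso
        (cone ≪≫ (mappingCone.shiftIso (f • 𝟙 K) n).symm) ≪≫
      ((CategoryTheory.shiftFunctorAdd' (DRing.Cx R) n (-1) (-((f :: fs).length : ℤ)) (by simp [n]; omega)).app _).symm⟩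

/-- Koszul regularity concentrates the extended Čech complex in top degree. -/
theorem isZero_extCech_of_koszulRegular (fs : List R) (hfs : LCI.IsKoszulRegularSeq R fs) (q : ℤ)
    (hq : q < (fs.length : ℤ)) : IsZero (extCechH fs (ModuleCat.of R R) q) := by
  suffices h : ∀ (n : ℕ) (p : ℤ), p < n → p < (fs.length : ℤ) → IsZero (extCechH fs (ModuleCat.of R R) p) from
    h (q.toNat + 1) q (by omega) hq
  intro n
  induction n with
  | zero => exact fun p hp _ => isZero_H fs _ p (Or.inl (by exact_mod_cast hp))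
  | succ n ih =>
    intro p hp hp'
    let C := extCech (ModuleCat.of R R) fs
    obtain ⟨-, π, hinj, hrange⟩ := socle_kG C p (fun i hi => ih i (by push_cast at hp; omega) (by omega)) fs
    have hz : IsZero ((kG fs C).homology p) := by
      obtain ⟨e₁⟩ := nonempty_kG_extCech fs (ModuleCat.of R R) fs (fun g hg => hg) p
      obtain ⟨e₂⟩ := nonempty_kG_koszul fs
      refine IsZero.of_iso ?_ (e₁ ≪≫ (HomologicalComplex.homologyFunctor _ _ p).mapIso e₂ ≪≫
        ((HomologicalComplex.homologyFunctor (ModuleCat.{u} R) (ComplexShape.up ℤ) 0).shiftIso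
          (-(fs.length : ℤ)) p (p - fs.length) (by omega)).app (Koszul.koszul R fs))
      exact hfs _ (by omega)
    haveI := ModuleCat.subsingleton_of_isZero hz
    have hsoc : ∀ z : C.homology p, (∀ f ∈ fs, f • z = 0) → z = 0 := fun z hzf => by
      obtain ⟨w, rfl⟩ := hrange z hzf
      rw [Subsingleton.elim w 0, map_zero]
    haveI : Subsingleton (C.homology p) := subsingleton_of_forall_eq 0 fun x => by
      have key : ∀ gs : List R, (∀ g ∈ gs, g ∈ fs) → ∀ z : C.homology p,
          (∀ f ∈ fs, f ∈ gs ∨ f • z = 0) → z = 0 := by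
        intro gs
        induction gs with
        | nil => exact fun _ z h => hsoc z fun f hf => (h f hf).resolve_left (by simp)
        | cons g gs ihg =>
          intro hgs z hzz
          obtain ⟨k, hk⟩ := exists_pow_smul_eq_zero fs (ModuleCat.of R R) p z g (hgs g List.mem_cons_self)
          have hz' : ∀ (j : ℕ) (w : C.homology p), (∀ f ∈ fs, f ∈ g :: gs ∨ f • w = 0) →
              g ^ j • w = 0 → w = 0 := by
            intro j
            induction j with
            | zero => intro w _ h; simpa using h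
            | succ j ihj =>
              intro w hw h
              have hg0 : g • w = 0 := ihj (g • w) (fun f hf => (hw f hf).imp_right fun e => by
                rw [smul_comm, e, smul_zero]) (by rw [← mul_smul, ← pow_succ]; exact h)
              refine ihg (fun x hx => hgs x (List.mem_cons_of_mem _ hx)) w fun f hf => ?_
              rcases hw f hf with h' | h'
              · rcases List.mem_cons.1 h' with rfl | h''
                · exact Or.inr hg0
                · exact Or.inl h''
              · exact Or.inr h'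
          exact hz' k z hzz hk
      exact key fs (fun g hg => hg) x fun f hf => Or.inl hf
    exact ModuleCat.isZero_of_subsingleton (C.homology p)

end GrothLib.ExtCech
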